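import Groth.Agent.L19.SupportPullback
import Groth.Agent.L19.QuasiFlat
import Groth.Agent.L00.StalkFunctor
import Groth.Agent.L21.Mod.Stalks
import Groth.Prelude.Def_CohB1
import Mathlib.RingTheory.Support

/-!
Maximal points of the support of `f^*E ⊗ F` for `F` flat over the base.
-/

set_option autoImplicit false
set_option linter.style.haveILetI false
set_option backward.isDefEq.respectTransparency.types false
set_option backward.isDefEq.respectTransparency false

universe u

open CategoryTheory CategoryTheory.Limits AlgebraicGeometry TopologicalSpace IsLocalRing TensorProduct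

noncomputable section

namespace Groth.L15.MaxSupp

theorem subsingleton_tensor_iff {R M N : Type u} [CommRing R] [IsLocalRing R] [AddCommGroup M] [Module R M]
    [Module.Finite R M] [AddCommGroup N] [Module R N] [Module.Finite R N] :
    Subsingleton (M ⊗[R] N) ↔ Subsingleton M ∨ Subsingleton N := by
  refine ⟨fun h => ?_, fun h => h.elim (fun _ => inferInstance) (fun _ => inferInstance)⟩
  by_contra hc
  obtain ⟨hM, hN⟩ := not_or.1 hc
  let κ := ResidueField R
  have h1 : Subsingleton ((κ ⊗[R] M) ⊗[κ] (κ ⊗[R] N)) :=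
    (AlgebraTensorModule.distribBaseChange R κ M N).symm.toEquiv.subsingleton
  haveI : Nontrivial (κ ⊗[R] M) := by
    rw [← not_subsingleton_iff_nontrivial, IsLocalRing.subsingleton_tensorProduct]; exact hM
  have h2 := (Module.FaithfullyFlat.subsingleton_tensorProduct_iff_right κ (κ ⊗[R] M) (N := κ ⊗[R] N)).1 h1
  exact hN (IsLocalRing.subsingleton_tensorProduct.1 h2)

/-- Going down inside the support of a finite module flat over the base. -/
theorem exists_prime_mem_support {A B N : Type u} [CommRing A] [CommRing B] [IsLocalRing A] [IsLocalRing B]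
    [Algebra A B] [IsLocalHom (algebraMap A B)] [AddCommGroup N] [Module A N] [Module B N] [IsScalarTower A B N]
    [Module.Finite B N] [Module.Flat A N] [Nontrivial N] (q : PrimeSpectrum A) :
    ∃ P : PrimeSpectrum B, PrimeSpectrum.comap (algebraMap A B) P = q ∧ Module.annihilator B N ≤ P.asIdeal := by
  let I := Module.annihilator B N
  have hI : I ≠ ⊤ := fun h => by
    obtain ⟨n, hn⟩ := exists_ne (0 : N)
    have h1 : (1 : B) ∈ I := h ▸ Submodule.mem_top
    exact hn (by simpa using Module.mem_annihilator.1 h1 n)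
  haveI : Nontrivial (B ⧸ I) := Ideal.Quotient.nontrivial_iff.2 hI
  haveI : IsLocalRing (B ⧸ I) := IsLocalRing.of_surjective' (Ideal.Quotient.mk I) Ideal.Quotient.mk_surjective
  letI := Module.quotientAnnihilator (R := B) (M := N)
  haveI : IsScalarTower B (B ⧸ I) N := IsScalarTower.of_algebraMap_smul fun _ _ => rfl
  haveI : IsScalarTower A (B ⧸ I) N := IsScalarTower.of_algebraMap_smul fun a n => by
    rw [IsScalarTower.algebraMap_apply A B (B ⧸ I), algebraMap_smul, algebraMap_smul]
  haveI : Module.Finite (B ⧸ I) N := Module.Finite.of_restrictScalars_finite B _ _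
  haveI : IsLocalHom (algebraMap A (B ⧸ I)) := by
    rw [IsScalarTower.algebraMap_eq A B (B ⧸ I)]
    haveI : IsLocalHom (algebraMap B (B ⧸ I)) := IsLocalHom.of_surjective _ Ideal.Quotient.mk_surjective
    infer_instance
  obtain ⟨P, hP⟩ := Groth.L19.QFlat.comap_surjective_of_flat (A := A) (B := B ⧸ I) (N := N) q
  refine ⟨PrimeSpectrum.comap (Ideal.Quotient.mk I) P, ?_, fun b hb => ?_⟩
  · rw [← hP]; rfl
  · show Ideal.Quotient.mk I b ∈ P.asIdeal
    rw [Ideal.Quotient.eq_zero_iff_mem.2 hb]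
    exact Ideal.zero_mem _

variable {X Y : Scheme.{u}}

theorem exists_generization (f : X ⟶ Y) (F : X.Modules) (hF : Coh.IsCoh F) (x : X)
    (hflat : FlatMod.IsFlatOverAt f F x) (hx : x ∈ CohB1.support F) (w : Y) (hw : w ⤳ f x) :
    ∃ z, z ⤳ x ∧ f z = w ∧ z ∈ CohB1.support F := by
  haveI : Coh.IsQCoh F := hF.1
  obtain ⟨_, ⟨V, hV, rfl⟩, hxV, -⟩ :=
    X.isBasis_affineOpens.exists_subset_of_mem_open (Set.mem_univ x) isOpen_univ
  replace hV : IsAffineOpen V := hV
  letI := Groth.L20.ModStalk.stalkModule F hxV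
  letI := X.presheaf.algebra_section_stalk ⟨x, hxV⟩
  have := hV.isLocalization_stalk ⟨x, hxV⟩
  have := Groth.L20.ModStalk.isLocalizedModule_germ F hV hxV
  have : IsScalarTower Γ(X, V) (X.presheaf.stalk x) (F.presheaf.stalk x) :=
    IsScalarTower.of_algebraMap_smul fun _ _ => rfl
  haveI : Module.Finite Γ(X, V) Γ(F, V) := Groth.L20.ModStalk.finite_sections F hF hV
  haveI : Module.Finite (X.presheaf.stalk x) (F.presheaf.stalk x) :=
    Groth.L19.SupportPullback.finite_stalk F hF x
  letI : Algebra (Y.presheaf.stalk (f x)) (X.presheaf.stalk x) := (f.stalkMap x).hom.toAlgebra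
  letI := FlatMod.moduleStalkOver f F x
  haveI : IsScalarTower (Y.presheaf.stalk (f x)) (X.presheaf.stalk x) (F.presheaf.stalk x) :=
    IsScalarTower.of_algebraMap_smul fun _ _ => rfl
  haveI : Module.Flat (Y.presheaf.stalk (f x)) (F.presheaf.stalk x) := hflat
  haveI : IsLocalHom (algebraMap (Y.presheaf.stalk (f x)) (X.presheaf.stalk x)) :=
    inferInstanceAs (IsLocalHom (f.stalkMap x).hom)
  haveI : Nontrivial (F.presheaf.stalk x) := not_subsingleton_iff_nontrivial.1 hx
  obtain ⟨q, hq⟩ : w ∈ Set.range (Y.fromSpecStalk (f x)) := by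
    rw [Scheme.range_fromSpecStalk]; exact hw
  obtain ⟨P, hP, hann⟩ := exists_prime_mem_support (A := Y.presheaf.stalk (f x)) (B := X.presheaf.stalk x)
    (N := F.presheaf.stalk x) q
  let z := X.fromSpecStalk x P
  have hzx : z ⤳ x := by
    have : z ∈ Set.range (X.fromSpecStalk x) := ⟨P, rfl⟩
    rwa [Scheme.range_fromSpecStalk] at this
  refine ⟨z, hzx, ?_, ?_⟩
  · rw [← hq, ← hP, ← Scheme.Hom.comp_apply, ← Scheme.SpecMap_stalkMap_fromSpecStalk, Scheme.Hom.comp_apply]
    rfl
  · have hzV : z ∈ V := hzx.mem_open V.2 hxV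
    let P₀ : PrimeSpectrum Γ(X, V) := PrimeSpectrum.comap (X.presheaf.germ V x hxV).hom P
    have hz0 : hV.fromSpec P₀ = z := by
      show hV.fromSpec _ = X.fromSpecStalk x P
      rw [← hV.fromSpecStalk_eq_fromSpecStalk hxV]
      rfl
    have hP₀ : hV.primeIdealOf ⟨z, hzV⟩ = P₀ :=
      hV.fromSpec.isOpenEmbedding.injective ((hV.fromSpec_primeIdealOf ⟨z, hzV⟩).trans hz0.symm)
    letI := Groth.L20.ModStalk.stalkModule F hzV
    letI := X.presheaf.algebra_section_stalk ⟨z, hzV⟩
    have := hV.isLocalization_stalk ⟨z, hzV⟩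
    have hloc := Groth.L20.ModStalk.isLocalizedModule_germ F hV hzV
    intro hsub
    have hann' : Module.annihilator Γ(X, V) Γ(F, V) ≤ P₀.asIdeal := by
      intro a ha
      refine hann (Module.mem_annihilator.2 fun n => ?_)
      obtain ⟨⟨m, s⟩, hm⟩ := IsLocalizedModule.surj (hV.primeIdealOf ⟨x, hxV⟩).asIdeal.primeCompl
        (Groth.L20.ModStalk.germₗ F hxV) n
      have hu : IsUnit (algebraMap Γ(X, V) (X.presheaf.stalk x) s) :=
        IsLocalization.map_units (X.presheaf.stalk x) s
      refine hu.smul_left_cancel.1 ?_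
      rw [smul_zero]
      show algebraMap Γ(X, V) (X.presheaf.stalk x) (s : Γ(X, V)) • algebraMap Γ(X, V) (X.presheaf.stalk x) a • n = 0
      rw [algebraMap_smul, algebraMap_smul, smul_comm, show (s : Γ(X, V)) • n = Groth.L20.ModStalk.germₗ F hxV m from hm,
        ← map_smul, Module.mem_annihilator.1 ha m, map_zero]
    have hsupp : P₀ ∈ Module.support Γ(X, V) Γ(F, V) := by
      rw [Module.support_eq_zeroLocus]
      exact hann'
    obtain ⟨m, hm⟩ : ∃ m : Γ(F, V), ∀ r ∉ P₀.asIdeal, r • m ≠ 0 := Module.mem_support_iff'.1 hsupp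
    have h0 : Groth.L20.ModStalk.germₗ F hzV m = 0 := Subsingleton.elim (α := F.presheaf.stalk z) _ _
    obtain ⟨r, hr⟩ := (IsLocalizedModule.eq_zero_iff (hV.primeIdealOf ⟨z, hzV⟩).asIdeal.primeCompl
      (Groth.L20.ModStalk.germₗ F hzV)).1 h0
    refine hm r.1 ?_ hr
    exact fun h => r.2 ((congrArg (fun p : PrimeSpectrum Γ(X, V) => (r.1 : Γ(X, V)) ∈ p.asIdeal) hP₀).mpr h)

theorem mem_support_tensor {F G : X.Modules} (x : X)
    [Module.Finite (X.presheaf.stalk x) (F.presheaf.stalk x)]
    [Module.Finite (X.presheaf.stalk x) (G.presheaf.stalk x)] :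
    x ∈ CohB1.support (CohB1.tensorMod F G) ↔ x ∈ CohB1.support F ∧ x ∈ CohB1.support G := by
  show ¬ Subsingleton _ ↔ ¬ Subsingleton _ ∧ ¬ Subsingleton _
  rw [← not_or]
  refine not_congr (Iff.trans ?_ (subsingleton_tensor_iff (R := X.presheaf.stalk x)
    (M := F.presheaf.stalk x) (N := G.presheaf.stalk x)))
  exact (Groth.L00.Stk.τ x F G).toLinearEquiv.toEquiv.subsingleton_congr.symm

theorem main (f : X ⟶ Y) (F : X.Modules) (hF : Coh.IsCoh F)
    (hfl : FlatMod.IsFlatOver f F) (E : Y.Modules) (hE : Coh.IsCoh E) (x : X) :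
    (x ∈ CohB1.support (CohB1.tensorMod ((Scheme.Modules.pullback f).obj E) F) ∧
        ∀ z ∈ CohB1.support (CohB1.tensorMod ((Scheme.Modules.pullback f).obj E) F), z ⤳ x → z = x) ↔
      ((f x ∈ CohB1.support E ∧ ∀ w ∈ CohB1.support E, w ⤳ f x → w = f x) ∧
        (f.asFiber x ∈ CohB1.support ((Scheme.Modules.pullback (f.fiberι (f x))).obj F) ∧
          ∀ z ∈ CohB1.support ((Scheme.Modules.pullback (f.fiberι (f x))).obj F), z ⤳ f.asFiber x → z = f.asFiber x)) := by
  haveI : Coh.IsQCoh E := hE.1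
  haveI : Coh.IsQCoh F := hF.1
  have hT : ∀ z, z ∈ CohB1.support (CohB1.tensorMod ((Scheme.Modules.pullback f).obj E) F) ↔
      f z ∈ CohB1.support E ∧ z ∈ CohB1.support F := fun z => by
    letI : Algebra (Y.presheaf.stalk (f z)) (X.presheaf.stalk z) := (f.stalkMap z).hom.toAlgebra
    haveI := Groth.L19.SupportPullback.finite_stalk E hE (f z)
    haveI := Groth.L19.SupportPullback.finite_stalk F hF z
    let e : ((Scheme.Modules.pullback f).obj E).presheaf.stalk z ≃ₗ[X.presheaf.stalk z]
        X.presheaf.stalk z ⊗[Y.presheaf.stalk (f z)] E.presheaf.stalk (f z) :=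
      ((Groth.L00.PullStalk.stalkIso f z).app E).toLinearEquiv
    haveI : Module.Finite (X.presheaf.stalk z) (((Scheme.Modules.pullback f).obj E).presheaf.stalk z) :=
      Module.Finite.equiv e.symm
    rw [mem_support_tensor, Groth.L19.SupportPullback.support_pullback f E hE.2, Set.mem_preimage]
  rw [Groth.L19.SupportPullback.support_pullback (f.fiberι (f x)) F hF.2]
  have hι : f.fiberι (f x) (f.asFiber x) = x := f.fiberι_asFiber x
  have hrange : ∀ z : X, f z = f x → ∃ z', f.fiberι (f x) z' = z := fun z hz => by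
    have : z ∈ Set.range (f.fiberι (f x)) := by rw [f.range_fiberι]; exact hz
    exact this
  simp only [hT, Set.mem_preimage, hι]
  constructor
  · rintro ⟨⟨hxE, hxF⟩, hmax⟩
    refine ⟨⟨hxE, fun w hw hwx => ?_⟩, hxF, fun z' hz' hzx => ?_⟩
    · obtain ⟨z, hzx, rfl, hzF⟩ := exists_generization f F hF x (hfl x) hxF w hwx
      rw [hmax z ⟨hw, hzF⟩ hzx]
    · have h1 := hzx.map (f.fiberι (f x)).continuous
      rw [hι] at h1
      have h2 : f (f.fiberι (f x) z') = f x := by
        have : f.fiberι (f x) z' ∈ Set.range (f.fiberι (f x)) := ⟨z', rfl⟩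
        rw [f.range_fiberι] at this
        exact this
      have h3 := hmax _ ⟨by rw [h2]; exact hxE, hz'⟩ h1
      exact (f.fiberι (f x)).isEmbedding.injective (h3.trans hι.symm)
  · rintro ⟨⟨hxE, hEmax⟩, hxF, hFmax⟩
    refine ⟨⟨hxE, hxF⟩, fun z ⟨hzE, hzF⟩ hzx => ?_⟩
    obtain ⟨z', rfl⟩ := hrange z (hEmax _ hzE (hzx.map f.continuous))
    rw [hFmax z' hzF ((f.fiberι (f x)).isEmbedding.isInducing.specializes_iff.1 (by rw [hι]; exact hzx)), hι]

end Groth.L15.MaxSupp
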